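import Mathlib
import Cfsg.Agent.Lib.Classical.GL2
import Cfsg.Agent.Lib.Classical.SylowSL2
import Cfsg.Agent.Lib.Forms.KleinSL2

/-!
# Redundant Sylow subgroups of `SL₂` and central quotients
-/

set_option autoImplicit false
set_option linter.unusedSectionVars false

namespace Cfsg.Agent.SolvStruct.Redundant.SylowSL

open scoped MatrixGroups Pointwise
open Matrix Cfsg.Agent.Forms.KleinSL2

theorem mem_sylow_coe {p : ℕ} {G : Type*} [Group G] {P : Sylow p G} {x : G} :
    x ∈ (P : Subgroup G) ↔ x ∈ P := Iff.rfl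

/-- Some Sylow `p`-subgroup is covered by the others. -/
def Redundant (p : ℕ) (G : Type*) [Group G] : Prop :=
  ∃ Q : Sylow p G, ∀ x : G, (∃ k : ℕ, orderOf x = p ^ k) → ∃ P : Sylow p G, P ≠ Q ∧ x ∈ P

theorem redundant_all {p : ℕ} [Fact p.Prime] {G : Type*} [Group G] [Finite G] (h : Redundant p G)
    (R : Sylow p G) {x : G} (hx : ∃ k : ℕ, orderOf x = p ^ k) : ∃ P : Sylow p G, P ≠ R ∧ x ∈ P := by
  obtain ⟨Q, hQ⟩ := h
  obtain ⟨g, rfl⟩ := MulAction.exists_smul_eq G Q R
  obtain ⟨P, hP, hmem⟩ := hQ (g⁻¹ * x * g) (by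
    obtain ⟨k, hk⟩ := hx
    refine ⟨k, ?_⟩
    rw [← hk, ← MulEquiv.orderOf_eq (MulAut.conj g⁻¹) x]
    simp)
  refine ⟨g • P, fun e => hP (MulAction.injective g e), ?_⟩
  rw [← mem_sylow_coe, Sylow.coe_subgroup_smul, Subgroup.mem_pointwise_smul_iff_inv_smul_mem]
  simp only [MulAut.smul_def, MulAut.conj_inv_apply]
  exact hmem

/-- A cyclic Sylow subgroup is not redundant. -/
theorem not_redundant_of_isCyclic {p : ℕ} [Fact p.Prime] {G : Type*} [Group G] [Finite G] (R : Sylow p G)
    (hc : IsCyclic (R : Subgroup G)) : ¬ Redundant p G := by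
  intro h
  obtain ⟨g, hg⟩ := hc.exists_generator
  obtain ⟨P, hP, hmem⟩ := redundant_all h R
    (by obtain ⟨k, hk⟩ := IsPGroup.iff_orderOf.1 R.2 g; exact ⟨k, by rw [← hk, Subgroup.orderOf_coe]⟩ :
      ∃ k : ℕ, orderOf (g : G) = p ^ k)
  have hle : (R : Subgroup G) ≤ (P : Subgroup G) := by
    intro y hy
    obtain ⟨i, hi⟩ := Subgroup.mem_zpowers_iff.1 (hg ⟨y, hy⟩)
    rw [show y = ((g : G)) ^ i by rw [← Subgroup.coe_zpow, hi]]
    exact zpow_mem hmem i
  exact hP (Sylow.ext (R.3 P.2 hle))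

/-- Sylow subgroups meeting trivially are not redundant. -/
theorem not_redundant_of_ti {p : ℕ} [Fact p.Prime] {G : Type*} [Group G] [Finite G]
    (hp : p ∣ Nat.card G) (hti : ∀ P Q : Sylow p G, P ≠ Q → ∀ x, x ∈ P → x ∈ Q → x = 1) :
    ¬ Redundant p G := by
  intro h
  obtain ⟨R⟩ := (inferInstance : Nonempty (Sylow p G))
  obtain ⟨x, hx⟩ := exists_prime_orderOf_dvd_card' (G := (R : Subgroup G)) p (R.dvd_card_of_dvd_card hp)
  obtain ⟨P, hP, hmem⟩ := redundant_all h R (x := (x : G)) ⟨1, by rw [Subgroup.orderOf_coe, hx, pow_one]⟩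
  have h1 := hti P R hP _ hmem x.2
  rw [← Subgroup.orderOf_coe, h1, orderOf_one] at hx
  exact (Fact.out : p.Prime).ne_one hx.symm

/-- Redundancy is insensitive to central quotients. -/
theorem redundant_iff_of_central {p : ℕ} [Fact p.Prime] {G H : Type*} [Group G] [Finite G] [Group H]
    [Finite H] (f : G →* H) (hf : Function.Surjective f) (hZ : f.ker ≤ Subgroup.center G) :
    Redundant p G ↔ Redundant p H := by
  have hlift : ∀ (P : Sylow p G) (x : G), (∃ k, orderOf x = p ^ k) →
      f x ∈ P.mapSurjective hf → x ∈ P := by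
    intro P x hx hm
    rw [← mem_sylow_coe, Sylow.coe_mapSurjective] at hm
    obtain ⟨y, hy, he⟩ := hm
    have hzc : y⁻¹ * x ∈ Subgroup.center G := hZ (MonoidHom.mem_ker.2 (by
      rw [map_mul, map_inv, he, inv_mul_cancel]))
    have hxn : Subgroup.zpowers x ≤ Subgroup.normalizer ((P : Subgroup G) : Set G) := by
      rw [Subgroup.zpowers_le, show x = y * (y⁻¹ * x) by group]
      exact mul_mem (Subgroup.le_normalizer hy) (Subgroup.center_le_normalizer _ hzc)
    obtain ⟨k, hk⟩ := hx
    have hpg : IsPGroup p (Subgroup.zpowers x ⊔ (P : Subgroup G) : Subgroup G) :=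
      IsPGroup.to_sup_of_normal_right' (IsPGroup.of_card (n := k) (by rw [Nat.card_zpowers, hk])) P.2 hxn
    exact (P.3 hpg le_sup_right).le (Subgroup.mem_sup_left (Subgroup.mem_zpowers x))
  have hinj : ∀ P P' : Sylow p G, P.mapSurjective hf = P'.mapSurjective hf → P = P' := by
    intro P P' e
    refine Sylow.ext ((P.3 P'.2 ?_).symm)
    intro x hx
    refine hlift P' x (by
      obtain ⟨k, hk⟩ := IsPGroup.iff_orderOf.1 P.2 ⟨x, hx⟩
      exact ⟨k, by rwa [Subgroup.orderOf_mk] at hk⟩) ?_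
    rw [← e, ← mem_sylow_coe, Sylow.coe_mapSurjective]
    exact ⟨x, hx, rfl⟩
  constructor
  · rintro ⟨Q, hQ⟩
    refine ⟨Q.mapSurjective hf, fun y hy => ?_⟩
    obtain ⟨k, hk⟩ := hy
    obtain ⟨R', hR'⟩ := (IsPGroup.of_card (n := k) (by rw [Nat.card_zpowers, hk]) :
      IsPGroup p (Subgroup.zpowers y)).exists_le_sylow
    obtain ⟨R, rfl⟩ := Sylow.mapSurjective_surjective hf p R'
    have hy' : y ∈ ((R.mapSurjective hf : Sylow p H) : Subgroup H) := hR' (Subgroup.mem_zpowers y)
    rw [Sylow.coe_mapSurjective] at hy'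
    obtain ⟨x, hx, rfl⟩ := hy'
    obtain ⟨P, hP, hmem⟩ := hQ x (by
      obtain ⟨k, hk⟩ := IsPGroup.iff_orderOf.1 R.2 ⟨x, hx⟩
      exact ⟨k, by rwa [Subgroup.orderOf_mk] at hk⟩)
    refine ⟨P.mapSurjective hf, fun e => hP (hinj _ _ e), ?_⟩
    rw [← mem_sylow_coe, Sylow.coe_mapSurjective]
    exact ⟨x, hmem, rfl⟩
  · rintro ⟨Q', hQ'⟩
    obtain ⟨Q, rfl⟩ := Sylow.mapSurjective_surjective hf p Q'
    refine ⟨Q, fun x hx => ?_⟩
    obtain ⟨k, hk⟩ := hx
    obtain ⟨P', hP', hmem⟩ := hQ' (f x) (by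
      obtain ⟨j, -, hj⟩ := (Nat.dvd_prime_pow Fact.out).1 (hk ▸ orderOf_map_dvd f x)
      exact ⟨j, hj⟩)
    obtain ⟨P, rfl⟩ := Sylow.mapSurjective_surjective hf p P'
    exact ⟨P, fun e => hP' (by rw [e]), hlift P x ⟨k, hk⟩ hmem⟩

/-- A commutative `2`-group with at most one involution has an element whose order is the group order. -/
theorem exists_orderOf_eq_card {C : Type*} [CommGroup C] [Finite C] (h2 : IsPGroup 2 C)
    (hu : ∀ a b : C, a * a = 1 → b * b = 1 → a ≠ 1 → b ≠ 1 → a = b) : IsCyclic C := by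
  classical
  haveI : Fintype C := Fintype.ofFinite C
  have hker : ∀ j : ℕ, Nat.card (powMonoidHom (2 ^ j) : C →* C).ker ≤ 2 ^ j := by
    intro j
    induction j with
    | zero =>
      have : (powMonoidHom (2 ^ 0) : C →* C).ker = ⊥ := by
        ext a; simp
      rw [this, Subgroup.card_bot]
      simp
    | succ j ih =>
      let K := (powMonoidHom (2 ^ (j + 1)) : C →* C).ker
      let s : K →* C := (powMonoidHom 2).comp K.subtype
      have h1 : Nat.card s.ker ≤ 2 := by
        by_contra hgt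
        rw [not_le, Nat.card_eq_fintype_card, Fintype.two_lt_card_iff] at hgt
        obtain ⟨a, b, c, hab, hac, hbc⟩ := hgt
        have hsq : ∀ u : s.ker, ((u : K) : C) * ((u : K) : C) = 1 := fun u => by
          have := MonoidHom.mem_ker.1 u.2
          rw [← sq]; exact this
        have key : ∀ u v : s.ker, u ≠ v → ((u : K) : C) ≠ ((v : K) : C) := fun u v h e =>
          h (Subtype.ext (Subtype.ext e))
        by_cases ha : ((a : K) : C) = 1
        · exact key b c hbc (hu _ _ (hsq b) (hsq c) (ha ▸ (key b a hab.symm)) (ha ▸ (key c a hac.symm)))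
        · by_cases hb : ((b : K) : C) = 1
          · exact key a c hac (hu _ _ (hsq a) (hsq c) ha (hb ▸ (key c b hbc.symm)))
          · exact key a b hab (hu _ _ (hsq a) (hsq b) ha hb)
      have h2' : Nat.card s.range ≤ 2 ^ j := by
        refine le_trans (Subgroup.card_le_of_le ?_) ih
        rintro _ ⟨u, rfl⟩
        rw [MonoidHom.mem_ker]
        have := MonoidHom.mem_ker.1 u.2
        simp only [powMonoidHom_apply] at this
        show ((u : C) ^ 2) ^ 2 ^ j = 1
        rw [← pow_mul, ← pow_succ']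
        exact this
      have h3 := Subgroup.card_mul_index s.ker
      rw [Subgroup.index_ker] at h3
      show Nat.card K ≤ 2 ^ (j + 1)
      rw [← h3, pow_succ']
      exact Nat.mul_le_mul h1 h2'
  obtain ⟨g, hg⟩ := Monoid.exists_orderOf_eq_exponent (G := C) Monoid.ExponentExists.of_finite
  obtain ⟨j, hj⟩ := IsPGroup.iff_orderOf.1 h2 g
  have hall : (powMonoidHom (2 ^ j) : C →* C).ker = ⊤ := by
    ext a
    simp only [MonoidHom.mem_ker, powMonoidHom_apply, Subgroup.mem_top, iff_true]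
    rw [← hj, hg]
    exact Monoid.pow_exponent_eq_one a
  have hle := hker j
  rw [hall, Subgroup.card_top, ← hj] at hle
  exact isCyclic_of_orderOf_eq_card g (le_antisymm (Nat.le_of_dvd Nat.card_pos (orderOf_dvd_natCard g)) hle)

variable {F : Type*} [Field F] [Fintype F]

local notation "S" => SL(2, F)

/-- The Sylow subgroups in the natural characteristic meet trivially. -/
theorem ti_char (p : ℕ) [Fact p.Prime] [CharP F p] (P Q : Sylow p S) (h : P ≠ Q) (x : S)
    (hP : x ∈ P) (hQ : x ∈ Q) : x = 1 := by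
  classical
  let ι : S →* GL (Fin 2) F := Matrix.SpecialLinearGroup.toGL
  have hι : Function.Injective ι := Matrix.SpecialLinearGroup.toGL_injective
  let up : Sylow p S → Sylow p (GL (Fin 2) F) := fun R => Sylow.ofCard ((R : Subgroup S).map ι) (by
    obtain ⟨g, rfl⟩ := Classical.GL2.exists_eq_conj_U p R
    rw [Subgroup.card_map_of_injective hι, Sylow.coe_subgroup_smul]
    have h1 : Nat.card (MulAut.conj g • ((Classical.GL2.sylowSL p : Sylow p S) : Subgroup S) : Subgroup S) =
        Nat.card F := by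
      rw [← Nat.card_congr (Subgroup.equivSMul _ _).toEquiv, Classical.GL2.coe_sylowSL, Classical.GL2.natCard_U]
    rw [h1, ← Classical.GL2.natCard_UGL (F := F), ← Classical.GL2.coe_sylowGL p]
    exact Sylow.card_eq_multiplicity _)
  have hup : ∀ R, ((up R : Sylow p (GL (Fin 2) F)) : Subgroup (GL (Fin 2) F)) = (R : Subgroup S).map ι :=
    fun R => rfl
  have hne : up P ≠ up Q := fun e => h (Sylow.ext (Subgroup.map_injective hι (by rw [← hup, ← hup, e])))
  have h1 := Classical.GL2.sylow_inf_eq_bot p (up P) (up Q) hne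
  refine hι (by
    rw [map_one, ← Subgroup.mem_bot, ← h1, Subgroup.mem_inf, hup, hup]
    exact ⟨⟨x, hP, rfl⟩, ⟨x, hQ, rfl⟩⟩)

/-- The two-element case: the criterion. -/
theorem redundant_two_iff (h2 : (2 : F) ≠ 0) :
    Redundant 2 S ↔ ¬ ∃ k : ℕ, Nat.card (Circ F 1) = 2 ^ k := by
  classical
  haveI : Fact (Nat.Prime 2) := ⟨Nat.prime_two⟩
  -- the centraliser and normaliser of `jSL`
  let C : Subgroup S :=
    { carrier := {g | g * jSL = jSL * g}
      one_mem' := by simp
      mul_mem' := fun {a b} ha hb => by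
        simp only [Set.mem_setOf_eq] at ha hb ⊢
        rw [mul_assoc, hb, ← mul_assoc, ha, mul_assoc]
      inv_mem' := fun {a} ha => by
        simp only [Set.mem_setOf_eq] at ha ⊢
        calc a⁻¹ * jSL = a⁻¹ * (jSL * a) * a⁻¹ := by group
          _ = a⁻¹ * (a * jSL) * a⁻¹ := by rw [ha]
          _ = jSL * a⁻¹ := by group }
  have hC : ∀ g, g ∈ C ↔ g * jSL = jSL * g := fun g => Iff.rfl
  have hCcard : Nat.card C = Nat.card (Circ F 1) := natCard_cent F
  let N : Subgroup S :=
    { carrier := {g | g * jSL = jSL * g ∨ g * jSL = -(jSL * g)}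
      one_mem' := Or.inl (by simp)
      mul_mem' := fun {a b} ha hb => by
        simp only [Set.mem_setOf_eq] at ha hb ⊢
        rcases ha with ha | ha <;> rcases hb with hb | hb
        · exact Or.inl (by rw [mul_assoc, hb, ← mul_assoc, ha, mul_assoc])
        · exact Or.inr (by rw [mul_assoc, hb, mul_neg, ← mul_assoc, ha, mul_assoc])
        · exact Or.inr (by rw [mul_assoc, hb, ← mul_assoc, ha, neg_mul, mul_assoc])
        · exact Or.inl (by rw [mul_assoc, hb, mul_neg, ← mul_assoc, ha, neg_mul, neg_neg, mul_assoc])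
      inv_mem' := fun {a} ha => by
        simp only [Set.mem_setOf_eq] at ha ⊢
        rcases ha with ha | ha
        · left
          calc a⁻¹ * jSL = a⁻¹ * (jSL * a) * a⁻¹ := by group
            _ = a⁻¹ * (a * jSL) * a⁻¹ := by rw [ha]
            _ = jSL * a⁻¹ := by group
        · right
          have ha' : jSL * a = -(a * jSL) := by rw [ha, neg_neg]
          calc a⁻¹ * jSL = a⁻¹ * (jSL * a) * a⁻¹ := by group
            _ = a⁻¹ * (-(a * jSL)) * a⁻¹ := by rw [ha']
            _ = -(jSL * a⁻¹) := by simp [mul_assoc] }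
  have hN : ∀ g, g ∈ N ↔ g * jSL = jSL * g ∨ g * jSL = -(jSL * g) := fun g => Iff.rfl
  have hne : ∀ g : S, g ≠ -g := fun g h => by
    have h1 := congrArg Subtype.val (mul_left_cancel (a := g) (b := 1) (c := -1) (by rw [mul_one, mul_neg, mul_one]; exact h))
    have h3 := congrFun (congrFun h1 0) 0
    rw [Matrix.SpecialLinearGroup.coe_neg, Matrix.SpecialLinearGroup.coe_one, Matrix.neg_apply, Matrix.one_apply_eq] at h3
    exact h2 (by linear_combination h3)
  have hCN : C ≤ N := fun g hg => Or.inl hg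
  have hNn : ∀ g ∈ N, ∀ c ∈ C, g * c * g⁻¹ ∈ C := by
    intro g hg c hc
    rw [hC] at hc ⊢
    have key : g * jSL * g⁻¹ = jSL ∨ g * jSL * g⁻¹ = -jSL := by
      rcases hg with h | h
      · exact Or.inl (by rw [h, mul_inv_cancel_right])
      · exact Or.inr (by rw [h, neg_mul, mul_inv_cancel_right])
    have e : g * c * g⁻¹ * (g * jSL * g⁻¹) = g * jSL * g⁻¹ * (g * c * g⁻¹) := by
      calc g * c * g⁻¹ * (g * jSL * g⁻¹) = g * (c * jSL) * g⁻¹ := by group
        _ = g * (jSL * c) * g⁻¹ := by rw [hc]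
        _ = g * jSL * g⁻¹ * (g * c * g⁻¹) := by group
    rcases key with k | k <;> rw [k] at e
    · exact e
    · simpa using e
  obtain ⟨a₀, ha₀⟩ : ∃ a : S, a * jSL = -(jSL * a) := by
    obtain ⟨x, y, hxy⟩ := exists_circ h2 (-1)
    exact ⟨⟨aM x y, by rw [det_aM, hxy, neg_neg]⟩, Subtype.ext (aM_mul_J x y)⟩
  have ha₀N : a₀ ∈ N := Or.inr ha₀
  have ha₀C : a₀ ∉ C := fun h => hne (jSL * a₀) ((((hC _).1 h).symm).trans ha₀)
  have hrel : C.relIndex N = 2 := by
    rw [Subgroup.relIndex, Subgroup.index_eq_two_iff]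
    refine ⟨⟨a₀, ha₀N⟩, fun ⟨b, hb⟩ => ?_⟩
    have h1 : b * a₀ ∈ C ↔ ¬ b ∈ C := by
      constructor
      · intro h hbC
        exact ha₀C (by simpa using mul_mem (inv_mem hbC) h)
      · intro hbC
        have hb' : b * jSL = -(jSL * b) := ((hN b).1 hb).resolve_left hbC
        rw [hC, mul_assoc, ha₀, mul_neg, ← mul_assoc, hb', neg_mul, neg_neg, mul_assoc]
    by_cases hbC : b ∈ C
    · exact Or.inr ⟨hbC, fun h => h1.1 h hbC⟩
    · exact Or.inl ⟨h1.2 hbC, hbC⟩
  have hNcard : Nat.card N = 2 * Nat.card C := by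
    rw [← Subgroup.card_mul_index (C.subgroupOf N), Nat.card_congr (Subgroup.subgroupOfEquivOfLe hCN).toEquiv,
      ← Subgroup.relIndex, hrel, mul_comm]
  -- the `2`-part
  have hfac : (Nat.card S).factorization 2 = (Nat.card N).factorization 2 := by
    have hq := Fintype.one_lt_card (α := F)
    have hodd : Odd (Fintype.card F) :=
      Nat.odd_iff.2 (FiniteField.odd_card_of_char_ne_two fun e => by
        haveI : CharP F 2 := ringChar.of_eq e
        exact h2 CharTwo.two_eq_zero)
    rw [Classical.SylowSL2.factorization_natCard_SL_two Nat.prime_two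
      (fun h => (Nat.not_even_iff_odd.2 hodd) (even_iff_two_dvd.2 h)), hNcard, hCcard,
      Nat.factorization_mul two_ne_zero (by rw [← hCcard]; exact Nat.card_pos.ne'), Finsupp.add_apply,
      Nat.Prime.factorization_self Nat.prime_two]
    obtain ⟨e1, e3⟩ := natCard_circ_one (F := F) h2
    have hs : ∀ m : ℕ, m % 4 = 2 → m.factorization 2 = 1 := by
      intro m hm
      obtain ⟨j, rfl⟩ : ∃ j, m = 2 * (2 * j + 1) := ⟨m / 4, by omega⟩
      rw [Nat.factorization_mul two_ne_zero (by omega), Finsupp.add_apply,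
        Nat.Prime.factorization_self Nat.prime_two, Nat.factorization_eq_zero_of_not_dvd (by omega)]
    rcases Classical.SylowSL2.odd_cases hodd with h | h
    · rw [e1 h, hs (Fintype.card F + 1) (by omega), add_comm]
    · rw [e3 h, hs (Fintype.card F - 1) (by omega)]
  have hsyl : ∀ R : Sylow 2 N, ∃ P : Sylow 2 S, (P : Subgroup S) = (R : Subgroup N).map N.subtype := by
    intro R
    refine ⟨Sylow.ofCard ((R : Subgroup N).map N.subtype) ?_, rfl⟩
    rw [Subgroup.card_map_of_injective N.subtype_injective, R.card_eq_multiplicity, hfac]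
  -- commutative centraliser
  have hCcomm : ∀ a ∈ C, ∀ b ∈ C, a * b = b * a := by
    intro a ha b hb
    have ea := eq_cM_of_comm (congrArg Subtype.val ((hC a).1 ha) :)
    have eb := eq_cM_of_comm (congrArg Subtype.val ((hC b).1 hb) :)
    refine Subtype.ext ?_
    show (a : Matrix (Fin 2) (Fin 2) F) * b = (b : Matrix (Fin 2) (Fin 2) F) * a
    rw [ea, eb, cM_mul, cM_mul]
    congr 1 <;> ring
  constructor
  · rintro hred ⟨k, hk⟩
    -- a single Sylow subgroup contains a generator of `C`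
    have hCp : IsPGroup 2 C := IsPGroup.of_card (n := k) (by rw [hCcard, hk])
    letI : CommGroup C :=
      { (inferInstance : Group C) with mul_comm := fun a b => Subtype.ext (hCcomm a a.2 b b.2) }
    haveI hcyc : IsCyclic C := exists_orderOf_eq_card hCp (by
      intro a b ha hb ha1 hb1
      have e : ∀ u : C, u * u = 1 → u ≠ 1 → ((u : S) : Matrix (Fin 2) (Fin 2) F) = -1 := fun u hu hu1 =>
        Classical.SylowSL2.eq_neg_one_of_sq h2 (u : S) (fun e => hu1 (Subtype.ext e)) (congrArg Subtype.val hu)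
      exact Subtype.ext (Subtype.ext ((e a ha ha1).trans (e b hb hb1).symm)))
    obtain ⟨g, hg⟩ := hcyc.exists_generator
    have hNp : IsPGroup 2 N := IsPGroup.of_card (n := k + 1) (by rw [hNcard, hCcard, hk, pow_succ'])
    obtain ⟨RN, hRN⟩ := hNp.exists_le_sylow
    have hRN' : (RN : Subgroup S) = N := by
      refine (Subgroup.eq_of_le_of_card_ge hRN ?_).symm
      rw [RN.card_eq_multiplicity, hfac, hNcard, hCcard, hk, ← pow_succ',
        Nat.Prime.factorization_pow Nat.prime_two, Finsupp.single_eq_same]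
    obtain ⟨P, hP, hmem⟩ := redundant_all hred RN (x := (g : S)) (by
      obtain ⟨i, hi⟩ := IsPGroup.iff_orderOf.1 hCp g
      exact ⟨i, by rw [← hi, Subgroup.orderOf_coe]⟩)
    have hCP : C ≤ (P : Subgroup S) := by
      intro y hy
      obtain ⟨i, hi⟩ := Subgroup.mem_zpowers_iff.1 (hg ⟨y, hy⟩)
      rw [show y = ((g : S)) ^ i by rw [← Subgroup.coe_zpow, hi]]
      exact zpow_mem hmem i
    -- `C` has index two in `P`
    have hPcard : Nat.card (P : Subgroup S) = 2 * Nat.card C := by
      rw [P.card_eq_multiplicity, hfac, hNcard, hCcard, hk, ← pow_succ',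
        Nat.Prime.factorization_pow Nat.prime_two, Finsupp.single_eq_same]
    have hPN : (P : Subgroup S) ≤ N := by
      have hidx : (C.subgroupOf (P : Subgroup S)).index = 2 := by
        have := Subgroup.card_mul_index (C.subgroupOf (P : Subgroup S))
        rw [Nat.card_congr (Subgroup.subgroupOfEquivOfLe hCP).toEquiv, hPcard, mul_comm 2] at this
        exact mul_left_cancel₀ Nat.card_pos.ne' this
      haveI hnorm := Subgroup.normal_of_index_eq_two hidx
      intro u hu
      have hj : jSL ∈ C := (hC _).2 rfl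
      have hc : u * jSL * u⁻¹ ∈ C := hnorm.conj_mem ⟨jSL, hCP hj⟩ hj ⟨u, hu⟩
      -- a square root of `-1` commuting with `jSL`
      have hsq : u * jSL * u⁻¹ * (u * jSL * u⁻¹) = -1 := by
        calc u * jSL * u⁻¹ * (u * jSL * u⁻¹) = u * (jSL * jSL) * u⁻¹ := by group
          _ = -1 := by rw [jSL_sq]; simp
      have e : (u * jSL * u⁻¹ * jSL) * (u * jSL * u⁻¹ * jSL) = 1 := by
        calc (u * jSL * u⁻¹ * jSL) * (u * jSL * u⁻¹ * jSL)
            = (u * jSL * u⁻¹) * (jSL * (u * jSL * u⁻¹)) * jSL := by group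
          _ = (u * jSL * u⁻¹) * ((u * jSL * u⁻¹) * jSL) * jSL := by rw [(hC _).1 hc]
          _ = (u * jSL * u⁻¹ * (u * jSL * u⁻¹)) * (jSL * jSL) := by group
          _ = 1 := by rw [hsq, jSL_sq]; simp
      rcases eq_or_ne (u * jSL * u⁻¹ * jSL) 1 with h | h
      · right
        have h' : u * jSL * u⁻¹ = -jSL := by
          rw [eq_inv_of_mul_eq_one_left h]
          refine inv_eq_of_mul_eq_one_right ?_
          rw [mul_neg, jSL_sq, neg_neg]
        rw [mul_inv_eq_iff_eq_mul, neg_mul] at h'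
        exact h'
      · left
        have h' : u * jSL * u⁻¹ * jSL = -1 := Subtype.ext (by
          rw [Classical.SylowSL2.eq_neg_one_of_sq h2 _ h e, Matrix.SpecialLinearGroup.coe_neg,
            Matrix.SpecialLinearGroup.coe_one])
        have h'' : u * jSL * u⁻¹ = jSL := by
          refine mul_right_cancel (b := jSL) ?_
          rw [h', jSL_sq]
        rwa [mul_inv_eq_iff_eq_mul] at h''
    exact hP (Sylow.ext (P.3 RN.2 (hRN'.symm ▸ hPN)).symm)
  · intro hk
    obtain ⟨Q⟩ := (inferInstance : Nonempty (Sylow 2 S))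
    refine ⟨Q, fun x hx => ?_⟩
    -- the normal `2`-part of `C` and two Sylow subgroups of `N`
    have two : ∀ x ∈ C, (∃ i, orderOf x = 2 ^ i) → ∃ P₁ P₂ : Sylow 2 S, P₁ ≠ P₂ ∧ x ∈ P₁ ∧ x ∈ P₂ := by
      intro x hxC hxo
      obtain ⟨R₁⟩ := (inferInstance : Nonempty (Sylow 2 N))
      have hR : ∃ R₂ : Sylow 2 N, R₂ ≠ R₁ := by
        by_contra! h
        -- all anticommuting elements would lie in `R₁`
        have hmem : ∀ u : N, (∃ i, orderOf u = 2 ^ i) → u ∈ R₁ := by
          intro u hu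
          obtain ⟨i, hi⟩ := hu
          obtain ⟨R', hR'⟩ := (IsPGroup.of_card (n := i) (by rw [Nat.card_zpowers, hi]) :
            IsPGroup 2 (Subgroup.zpowers u)).exists_le_sylow
          rw [← h R']
          exact hR' (Subgroup.mem_zpowers u)
        have hanti : ∀ u : N, (u : S) ∉ C → u ∈ R₁ := by
          intro u hu
          have h4 : (u : S) ^ 4 = 1 := by
            have := anti_sq (((hN _).1 u.2).resolve_left hu)
            rw [show 4 = 2 * 2 from rfl, pow_mul, sq (u : S), this]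
            simp
          refine hmem u ?_
          have hd : orderOf u ∣ 2 ^ 2 := by
            rw [← Subgroup.orderOf_coe]; exact orderOf_dvd_of_pow_eq_one h4
          obtain ⟨i, -, hi⟩ := (Nat.dvd_prime_pow Nat.prime_two).1 hd
          exact ⟨i, hi⟩
        have htop : ∀ u : N, u ∈ R₁ := by
          intro u
          by_cases hu : (u : S) ∈ C
          · have h1 : ((u * ⟨a₀, ha₀N⟩ : N) : S) ∉ C := fun h =>
              ha₀C (by simpa using mul_mem (inv_mem hu) h)
            simpa using mul_mem (hanti _ h1) (inv_mem (hanti ⟨a₀, ha₀N⟩ ha₀C))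
          · exact hanti u hu
        obtain ⟨i, hi⟩ := R₁.2.exists_card_eq
        rw [show (R₁ : Subgroup N) = ⊤ from eq_top_iff.2 fun u _ => htop u, Subgroup.card_top, hNcard,
          hCcard] at hi
        refine hk ?_
        obtain ⟨l, -, hl⟩ := (Nat.dvd_prime_pow Nat.prime_two).1 (hi ▸ dvd_mul_left _ 2 :
          Nat.card (Circ F 1) ∣ 2 ^ i)
        exact ⟨l, hl⟩
      obtain ⟨R₂, hR₂⟩ := hR
      have hxR : ∀ R : Sylow 2 N, (⟨x, hCN hxC⟩ : N) ∈ R := by
        intro R
        obtain ⟨i, hi⟩ := hxo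
        let T : Subgroup N :=
          { carrier := {u | (u : S) ∈ C ∧ ∃ i, orderOf (u : S) ∣ 2 ^ i}
            one_mem' := ⟨one_mem C, 0, by simp⟩
            mul_mem' := fun {a b} ha hb => ⟨mul_mem ha.1 hb.1, by
              obtain ⟨i, hi⟩ := ha.2
              obtain ⟨j, hj⟩ := hb.2
              refine ⟨i + j, orderOf_dvd_of_pow_eq_one ?_⟩
              rw [Subgroup.coe_mul, (show Commute (a : S) (b : S) from hCcomm _ ha.1 _ hb.1).mul_pow,
                orderOf_dvd_iff_pow_eq_one.1 (hi.trans (pow_dvd_pow 2 (Nat.le_add_right i j))),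
                orderOf_dvd_iff_pow_eq_one.1 (hj.trans (pow_dvd_pow 2 (Nat.le_add_left j i))), one_mul]⟩
            inv_mem' := fun {a} ha => ⟨inv_mem ha.1, by
              obtain ⟨i, hi⟩ := ha.2
              exact ⟨i, by rw [Subgroup.coe_inv, orderOf_inv]; exact hi⟩⟩ }
        haveI : T.Normal := ⟨fun u hu v => ⟨hNn v v.2 u hu.1, by
          obtain ⟨i, hi⟩ := hu.2
          refine ⟨i, ?_⟩
          rw [Subgroup.coe_mul, Subgroup.coe_mul, Subgroup.coe_inv,
            show (v : S) * u * (v : S)⁻¹ = MulAut.conj (v : S) u from rfl, MulEquiv.orderOf_eq]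
          exact hi⟩⟩
        have hTp : IsPGroup 2 T := IsPGroup.iff_orderOf.2 fun u => by
          obtain ⟨j, hj⟩ := u.2.2
          obtain ⟨l, -, hl⟩ := (Nat.dvd_prime_pow Nat.prime_two).1 hj
          exact ⟨l, by rw [← hl, Subgroup.orderOf_coe, Subgroup.orderOf_coe]⟩
        exact hTp.le_sylow_of_normal R ⟨hxC, i, hi.dvd⟩
      obtain ⟨P₁, hP₁⟩ := hsyl R₁
      obtain ⟨P₂, hP₂⟩ := hsyl R₂
      refine ⟨P₁, P₂, fun e => hR₂ (Sylow.ext ?_).symm, ?_, ?_⟩
      · exact Subgroup.map_injective N.subtype_injective (by rw [← hP₁, ← hP₂, e])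
      · rw [← mem_sylow_coe, hP₁]; exact ⟨_, hxR R₁, rfl⟩
      · rw [← mem_sylow_coe, hP₂]; exact ⟨_, hxR R₂, rfl⟩
    -- reduce to elements centralising `jSL`
    obtain ⟨i, hi⟩ := hx
    have hconjC : ∃ g : S, g⁻¹ * x * g ∈ C := by
      rcases Nat.lt_or_ge i 2 with hlt | hge
      · refine ⟨1, ?_⟩
        rw [hC]
        have hx2 : x * x = 1 := by
          rw [← sq, ← orderOf_dvd_iff_pow_eq_one, hi]
          exact (pow_dvd_pow 2 (by omega : i ≤ 1)).trans (by norm_num)
        by_cases h1 : x = 1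
        · simp [h1]
        · have : x = -1 := Subtype.ext (by
            rw [Classical.SylowSL2.eq_neg_one_of_sq h2 x h1 hx2, Matrix.SpecialLinearGroup.coe_neg,
              Matrix.SpecialLinearGroup.coe_one])
          simp [this]
      · obtain ⟨l, rfl⟩ := Nat.exists_eq_add_of_le hge
        have h4 : x ^ 2 ^ l * x ^ 2 ^ l = -1 := by
          have e : x ^ 2 ^ l * x ^ 2 ^ l = x ^ 2 ^ (l + 1) := by
            rw [← pow_add]; congr 1; ring
          have hne1 : x ^ 2 ^ (l + 1) ≠ 1 := fun h => by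
            have := orderOf_dvd_of_pow_eq_one h
            rw [hi] at this
            have := Nat.pow_dvd_pow_iff_le_right (by norm_num : 1 < 2) |>.1 this
            omega
          have hsq : x ^ 2 ^ (l + 1) * x ^ 2 ^ (l + 1) = 1 := by
            rw [← pow_add, ← orderOf_dvd_iff_pow_eq_one, hi]
            exact dvd_of_eq (by ring)
          rw [e]
          exact Subtype.ext (by
            rw [Classical.SylowSL2.eq_neg_one_of_sq h2 _ hne1 hsq, Matrix.SpecialLinearGroup.coe_neg,
              Matrix.SpecialLinearGroup.coe_one])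
        obtain ⟨g, hg⟩ := exists_conj_j h2 h4
        refine ⟨g, (hC _).2 ?_⟩
        have : Commute x (x ^ 2 ^ l) := Commute.self_pow x _
        rw [← hg] at this
        calc g⁻¹ * x * g * jSL = g⁻¹ * (x * (g * jSL * g⁻¹)) * g := by group
          _ = g⁻¹ * ((g * jSL * g⁻¹) * x) * g := by rw [this.eq]
          _ = jSL * (g⁻¹ * x * g) := by group
    obtain ⟨g, hg⟩ := hconjC
    obtain ⟨P₁, P₂, hne12, h1, h2'⟩ := two _ hg ⟨i, by
      rw [← hi, show g⁻¹ * x * g = MulAut.conj g⁻¹ x by simp, MulEquiv.orderOf_eq]⟩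
    have hsm : ∀ P : Sylow 2 S, g⁻¹ * x * g ∈ P → x ∈ g • P := fun P hP => by
      rw [← mem_sylow_coe, Sylow.coe_subgroup_smul, Subgroup.mem_pointwise_smul_iff_inv_smul_mem]
      simp only [MulAut.smul_def, MulAut.conj_inv_apply]
      exact hP
    by_cases hQ : g • P₁ = Q
    · refine ⟨g • P₂, fun e => hne12 (MulAction.injective g (hQ.trans e.symm)), hsm _ h2'⟩
    · exact ⟨g • P₁, hQ, hsm _ h1⟩

theorem redundant_iff (p : ℕ) [Fact p.Prime] :
    Redundant p S ↔ (p = 2 ∧ (¬ ∃ k : ℕ, Fintype.card F + 1 = 2 ^ k) ∧ (¬ ∃ k : ℕ, Fintype.card F = 2 ^ k) ∧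
        ¬ ∃ k : ℕ, Fintype.card F = 2 ^ k + 1) := by
  obtain ⟨ℓ, hℓ⟩ := CharP.exists F
  obtain ⟨f, hℓp, hcard⟩ := FiniteField.card F ℓ
  haveI : Fact ℓ.Prime := ⟨hℓp⟩
  have hp : p.Prime := Fact.out
  have hchar : p = ℓ → ¬ Redundant p S := by
    rintro rfl
    refine not_redundant_of_ti ?_ (ti_char p)
    rw [Classical.GL2.natCard_SL_two]
    exact (Classical.GL2.dvd_card p).trans (dvd_mul_right _ _)
  by_cases hp2 : p = 2
  · subst hp2
    by_cases h2 : (2 : F) = 0
    · have h2l : 2 = ℓ := by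
        have : ((2 : ℕ) : F) = 0 := by exact_mod_cast h2
        exact ((Nat.prime_dvd_prime_iff_eq hℓp Nat.prime_two).1 ((CharP.cast_eq_zero_iff F ℓ 2).1 this)).symm
      exact ⟨fun h => absurd h (hchar h2l), fun h => absurd ⟨(f : ℕ), hcard.trans (by rw [← h2l])⟩ h.2.2.1⟩
    have hodd : Fintype.card F % 2 = 1 := by
      rw [hcard, Nat.pow_mod]
      have : ℓ ≠ 2 := by
        rintro rfl
        exact h2 (by exact_mod_cast CharP.cast_eq_zero F 2)
      rw [hℓp.eq_two_or_odd.resolve_left this]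
      simp
    rw [redundant_two_iff h2]
    obtain ⟨e1, e3⟩ := natCard_circ_one (F := F) h2
    have hsmall : ∀ m k : ℕ, m = 2 ^ k → m % 4 = 2 → m = 2 := by
      intro m k hm hmod
      rcases Nat.lt_or_ge k 2 with h | h
      · interval_cases k
        · omega
        · simpa using hm
      · obtain ⟨j, rfl⟩ := Nat.exists_eq_add_of_le h
        rw [pow_add] at hm
        omega
    have hq := Fintype.one_lt_card (α := F)
    rcases (show Fintype.card F % 4 = 1 ∨ Fintype.card F % 4 = 3 by omega) with h | h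
    · rw [e1 h]
      constructor
      · intro hk
        refine ⟨rfl, fun ⟨k, hk'⟩ => ?_, fun ⟨k, hk'⟩ => ?_, fun ⟨k, hk'⟩ => hk ⟨k, by omega⟩⟩
        · have := hsmall _ k hk' (by omega); omega
        · rcases Nat.eq_zero_or_pos k with rfl | hk0
          · norm_num at hk'; omega
          · have := dvd_pow_self 2 hk0.ne'; omega
      · rintro ⟨-, -, -, h3⟩ ⟨k, hk⟩
        exact h3 ⟨k, by omega⟩
    · rw [e3 h]
      constructor
      · intro hk
        refine ⟨rfl, fun hk' => hk hk', fun ⟨k, hk'⟩ => ?_, fun ⟨k, hk'⟩ => ?_⟩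
        · rcases Nat.eq_zero_or_pos k with rfl | hk0
          · norm_num at hk'; omega
          · have := dvd_pow_self 2 hk0.ne'; omega
        · have hm := hsmall (Fintype.card F - 1) k (by omega) (by omega)
          exact hk ⟨2, by norm_num; omega⟩
      · rintro ⟨-, h1, -, -⟩ hk
        exact h1 hk
  · refine ⟨fun h => absurd h ?_, fun h => absurd h.1 hp2⟩
    by_cases hpl : p = ℓ
    · exact hchar hpl
    obtain ⟨R⟩ := (inferInstance : Nonempty (Sylow p S))
    exact not_redundant_of_isCyclic R (Classical.SylowSL2.isCyclic_sylow ℓ p hp2 hpl R)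

end Cfsg.Agent.SolvStruct.Redundant.SylowSL
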